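import Cfsg.Agent.Lib.OrthCocycle.Core
import Cfsg.Prelude.Def_Classical

/-!
Certificates for three orthogonal groups over the field with two elements.
-/

set_option autoImplicit false
set_option maxRecDepth 100000

namespace Cfsg.Agent.Lib.OrthCocycle

/-- Coordinates in the minus case. -/
def eMin (m : ℕ) : Fin (m + m + 2) ≃ (Fin m ⊕ Fin m) ⊕ Fin 2 :=
  finSumFinEquiv.symm.trans (Equiv.sumCongr finSumFinEquiv.symm (Equiv.refl _))

/-- Coordinates in the plus case. -/
def ePl (m : ℕ) : Fin (m + m) ≃ Fin m ⊕ Fin m := finSumFinEquiv.symm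

def laFour : List (ℕ × ℕ) := [(10, 4),(8, 5)]
def lbFour : List (ℕ × ℕ) := [(5, 8)]
def genFour : List (ℕ × ℕ) := [(3,1),(4,25),(5,88),(6,52),(8,216),(9,21),(10,5),(12,237),(13,86),(14,105)]
def relFour : List (ℕ × ℕ) := [(15,1),(17,28)]
def qTabFour : ℕ := 30584
def baseFour : ℕ := 3

def laSix : List (ℕ × ℕ) := [(20, 36),(47, 28),(60, 49)]
def lbSix : List (ℕ × ℕ) := [(32, 17),(41, 54)]
def genSix : List (ℕ × ℕ) := [(5,1),(7,1156),(10,12898),(11,63384),(13,1185),(14,84752),(16,57091),(17,28883),(18,6544),(19,28007),(20,31577),(22,8806),(24,26188),(25,2656),(28,43393),(31,7216),(32,3540),(33,125562),(34,101020),(35,33193),(36,38933),(38,95528),(40,1354),(41,31796),(44,115976),(47,34823),(48,108712),(49,53766),(50,15768),(51,64008),(52,13169),(54,5006),(56,4627),(57,3864),(60,49685),(63,7300)]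
def relSix : List (ℕ × ℕ) := [(127,1),(463,334)]
def qTabSix : ℕ := 10619368485066599584
def baseSix : ℕ := 5

def laEight : List (ℕ × ℕ) := [(92, 136),(99, 69),(17, 167),(58, 100)]
def lbEight : List (ℕ × ℕ) := [(172, 61),(124, 17)]
def genEight : List (ℕ × ℕ) := [(17,1),(19,285639776),(21,952976022),(23,841390752),(25,323374134),(27,1096077654),(29,282403881),(31,2773590577),(34,1179159344),(35,457279514),(38,3872143024),(39,1949741787),(42,832714137),(43,888027),(46,551171138),(47,942825910),(49,480649793),(50,996825188),(53,2875631889),(54,2439122118),(57,6652257132),(58,841132250),(61,5416294688),(62,280380121),(68,160994337),(69,580990006),(70,3762565805),(71,2962003618),(76,858890805),(77,3846361696),(78,1645946904),(79,895166880),(81,1754417748),(83,829187712),(84,851657030),(86,42558795),(89,3646448787),(91,2429206872),(92,28645892),(94,808301769),(98,2304166280),(99,1343380171),(100,1345601616),(101,2892598091),(106,611168674),(107,1511108613),(108,5650339984),(109,2765146256),(113,321462357),(114,143184685),(1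16,7587679556),(119,3872142900),(121,1955661005),(122,6823193104),(124,453397558),(127,3374733442),(136,7535734162),(137,875703385),(138,147394656),(139,856450713),(140,967643532),(141,7705135189),(142,7123163156),(143,448877958),(145,4904228938),(147,1210189954),(149,439039046),(151,357108291),(152,627382930),(154,160260713),(156,5117873440),(158,648317642),(162,2831853228),(163,88935016),(166,7961128333),(167,1725633292),(168,426299604),(169,2333107761),(172,222652040),(173,949538049),(177,861147686),(178,615801002),(181,4468263276),(182,122719008),(184,5799720537),(187,12651049),(188,496315667),(191,2964772241),(196,991535138),(197,178925977),(198,7324322857),(199,673764035),(200,1125191060),(201,117862),(202,2858058925),(203,962700682),(209,632396421),(211,4751406513),(212,105265),(214,1231723033),(216,91852),(218,920259736),(221,3291170523),(223,81437381),(226,274205769),(227,1231907428),(228,1231467024),(229,174896746),(232,900912232),(233,364169608),(238,1221235093),(239,744915141),(241,73503501),(242,1512157901),(244,728052757),(247,138619493),(248,3450919232),(251,496666116),(253,2778891011),(254,582064643)]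
def relEight : List (ℕ × ℕ) := [(15,1),(1537,1228),(6826,2051)]
def qTabEight : ℕ := 47759223636507730209801550344371119078934783318887441289834004656231277002752
def baseEight : ℕ := 17

def tableFour : List (List ℕ) := [[],[3],[4],[5],[6],[8],[9],[10],[12],[13],[14],[3,4],[3,5],[3,6],[3,8],[3,9],[3,10],[3,12],[3,13],[3,14],[4,5],[4,6],[4,8],[4,9],[4,10],[4,12],[4,13],[4,14],[5,8],[5,9],[5,10],[5,12],[5,13],[5,14],[6,8],[6,9],[6,10],[6,12],[6,13],[6,14],[8,9],[8,10],[9,14],[10,13],[12,13],[12,14],[3,4,5],[3,4,6],[3,4,8],[3,4,9],[3,4,10],[3,4,12],[3,4,13],[3,4,14],[3,5,8],[3,5,9],[3,5,10],[3,5,12],[3,5,13],[3,5,14],[3,6,8],[3,6,9],[3,6,10],[3,6,12],[3,6,13],[3,6,14],[3,8,9],[3,8,10],[3,9,14],[3,10,13],[3,12,13],[3,12,14],[4,5,8],[4,5,9],[4,5,10],[4,5,12],[4,5,13],[4,5,14],[4,6,8],[4,6,9],[4,6,10],[4,6,12],[4,6,13],[4,6,14],[4,8,9],[4,8,10],[4,12,13],[4,12,14],[5,8,10],[5,9,14],[5,10,13],[5,12,14],[6,8,9],[6,9,14],[6,10,13],[6,12,13],[3,4,5,8],[3,4,5,9],[3,4,5,10],[3,4,5,12],[3,4,5,13],[3,4,5,14],[3,4,6,8],[3,4,6,9],[3,4,6,10],[3,4,6,12],[3,4,6,13],[3,4,6,14],[3,4,8,9],[3,4,8,10],[3,4,12,13],[3,4,12,14],[3,5,8,10],[3,5,9,14],[3,5,10,13],[3,5,12,14],[3,6,8,9],[3,6,9,14],[3,6,10,13],[3,6,12,13]]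

/-- The form in dimension four, on masks. -/
def qFour (x : ℕ) : Bool := qTabFour.testBit x

/-- The form in dimension six, on masks. -/
def qSix (x : ℕ) : Bool := qTabSix.testBit x

/-- The form in dimension eight, on masks. -/
def qEight (x : ℕ) : Bool := qTabEight.testBit x

theorem q_four : ∀ m : Fin (2 ^ 4), Cfsg.quadFormMinus 1 (ZMod 2) 1 1 (vec (eMin 1) m) = if qFour m then 1 else 0 := by
  decide +kernel

theorem q_six : ∀ m : Fin (2 ^ 6), Cfsg.quadFormMinus 2 (ZMod 2) 1 1 (vec (eMin 2) m) = if qSix m then 1 else 0 := by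
  decide +kernel

theorem q_eight : ∀ m : Fin (2 ^ 8), Cfsg.quadFormPlus 4 (ZMod 2) (vec (ePl 4) m) = if qEight m then 1 else 0 := by
  decide +kernel

theorem pairs_ok : (goodPairs 4 qFour laFour && goodPairs 4 qFour lbFour &&
    goodPairs 6 qSix laSix && goodPairs 6 qSix lbSix &&
    goodPairs 8 qEight laEight && goodPairs 8 qEight lbEight) = true := by decide +kernel

theorem cert_four : (genCheck 4 qFour laFour lbFour baseFour genFour && relCheck 4 qFour laFour lbFour relFour) = true := by
  decide +kernel

theorem cert_six : (genCheck 6 qSix laSix lbSix baseSix genSix && relCheck 6 qSix laSix lbSix relSix) = true := by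
  decide +kernel

end Cfsg.Agent.Lib.OrthCocycle
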